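import Cfsg.Agent.Lib.ToddCox.Fi24_306936.P0
import Cfsg.Agent.Lib.ToddCox.Fi24_306936.P1
import Cfsg.Agent.Lib.ToddCox.Fi24_306936.P2
import Cfsg.Agent.Lib.ToddCox.Fi24_306936.P3
import Cfsg.Agent.Lib.ToddCox.Fi24_306936.P4
import Cfsg.Agent.Lib.ToddCox.Fi24_306936.P5
import Cfsg.Agent.Lib.ToddCox.Fi24_306936.P6
import Cfsg.Agent.Lib.ToddCox.Fi24_306936.P7
import Cfsg.Agent.Lib.ToddCox.Fi24_306936.P8
import Cfsg.Agent.Lib.ToddCox.Fi24_306936.P9
import Cfsg.Agent.Lib.ToddCox.Fi24_306936.P10
import Cfsg.Agent.Lib.ToddCox.Fi24_306936.P11
import Cfsg.Agent.Lib.ToddCox.Fi24_306936.P12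
set_option autoImplicit false
set_option maxRecDepth 100000
namespace Cfsg.Agent.Lib.ToddCox.Fi24_306936
theorem covered : Covered Eo inv W isH 347684 2179237 := (Covered.trans (Covered.trans (Covered.trans (Covered.trans (Covered.trans (Covered.trans (Covered.trans (Covered.trans (Covered.trans c0 (Covered.trans c1 c2)) (Covered.trans (Covered.trans c3 c4) (Covered.trans c5 c6))) (Covered.trans (Covered.trans c7 (Covered.trans c8 c9)) (Covered.trans (Covered.trans c10 c11) (Covered.trans c12 c13)))) (Covered.trans (Covered.trans (Covered.trans c14 (Covered.trans c15 c16)) (Covered.trans (Covered.trans c17 c18) (Covered.trans c19 c20))) (Covered.trans (Covered.trans c21 (Covered.trans c22 c23)) (Covered.trans (Covered.trans c24 c25) (Covered.trans c26 c27))))) (Covered.trans (Covered.trans (Covered.trans (Covered.trans c28 (Covered.trans c29 c30)) (Covered.trans (Covered.trans c31 c32) (Covered.trans c33 c34))) (Covered.trans (Covered.trans c35 (Covered.trans c36 c37)) (Covered.trans (Covered.trans c38 c39) (Covered.trans c40 c41)))) (Covered.trans (Covered.trans (Covered.trans c42 (Covered.trans c43 c44)) (Covered.trans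 (Covered.trans c45 c46) (Covered.trans c47 c48))) (Covered.trans (Covered.trans c49 (Covered.trans c50 c51)) (Covered.trans (Covered.trans c52 c53) (Covered.trans c54 c55)))))) (Covered.trans (Covered.trans (Covered.trans (Covered.trans (Covered.trans c56 (Covered.trans c57 c58)) (Covered.trans (Covered.trans c59 c60) (Covered.trans c61 c62))) (Covered.trans (Covered.trans c63 (Covered.trans c64 c65)) (Covered.trans (Covered.trans c66 c67) (Covered.trans c68 c69)))) (Covered.trans (Covered.trans (Covered.trans c70 (Covered.trans c71 c72)) (Covered.trans (Covered.trans c73 c74) (Covered.trans c75 c76))) (Covered.trans (Covered.trans c77 (Covered.trans c78 c79)) (Covered.trans (Covered.trans c80 c81) (Covered.trans c82 c83))))) (Covered.trans (Covered.trans (Covered.trans (Covered.trans c84 (Covered.trans c85 c86)) (Covered.trans (Covered.trans c87 c88) (Covered.trans c89 c90))) (Covered.trans (Covered.trans c91 (Covered.trans c92 c93)) (Covered.trans (Covered.trans c94 c95) (Covered.trans c96 c97)))) (Covered.trans (Covered.trans (Covered.trans c98 (Covered.trans c99 c100)) (Covered.trans (Covered.trans c101 c102) (Covered.trans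 c103 c104))) (Covered.trans (Covered.trans c105 (Covered.trans c106 c107)) (Covered.trans (Covered.trans c108 c109) (Covered.trans c110 c111))))))) (Covered.trans (Covered.trans (Covered.trans (Covered.trans (Covered.trans (Covered.trans c112 (Covered.trans c113 c114)) (Covered.trans (Covered.trans c115 c116) (Covered.trans c117 c118))) (Covered.trans (Covered.trans c119 (Covered.trans c120 c121)) (Covered.trans (Covered.trans c122 c123) (Covered.trans c124 c125)))) (Covered.trans (Covered.trans (Covered.trans c126 (Covered.trans c127 c128)) (Covered.trans (Covered.trans c129 c130) (Covered.trans c131 c132))) (Covered.trans (Covered.trans c133 (Covered.trans c134 c135)) (Covered.trans (Covered.trans c136 c137) (Covered.trans c138 c139))))) (Covered.trans (Covered.trans (Covered.trans (Covered.trans c140 (Covered.trans c141 c142)) (Covered.trans (Covered.trans c143 c144) (Covered.trans c145 c146))) (Covered.trans (Covered.trans c147 (Covered.trans c148 c149)) (Covered.trans (Covered.trans c150 c151) (Covered.trans c152 c153)))) (Covered.trans (Covered.trans (Covered.trans c154 (Covered.trans c155 c156)) (Covered.trans (Covered.trans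 c157 c158) (Covered.trans c159 c160))) (Covered.trans (Covered.trans c161 (Covered.trans c162 c163)) (Covered.trans (Covered.trans c164 c165) (Covered.trans c166 c167)))))) (Covered.trans (Covered.trans (Covered.trans (Covered.trans (Covered.trans c168 (Covered.trans c169 c170)) (Covered.trans (Covered.trans c171 c172) (Covered.trans c173 c174))) (Covered.trans (Covered.trans c175 (Covered.trans c176 c177)) (Covered.trans (Covered.trans c178 c179) (Covered.trans c180 c181)))) (Covered.trans (Covered.trans (Covered.trans c182 (Covered.trans c183 c184)) (Covered.trans (Covered.trans c185 c186) (Covered.trans c187 c188))) (Covered.trans (Covered.trans c189 (Covered.trans c190 c191)) (Covered.trans (Covered.trans c192 c193) (Covered.trans c194 c195))))) (Covered.trans (Covered.trans (Covered.trans (Covered.trans c196 (Covered.trans c197 c198)) (Covered.trans (Covered.trans c199 c200) (Covered.trans c201 c202))) (Covered.trans (Covered.trans c203 (Covered.trans c204 c205)) (Covered.trans (Covered.trans c206 c207) (Covered.trans c208 c209)))) (Covered.trans (Covered.trans (Covered.trans c210 (Covered.trans c211 c212)) (Covered.trans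 (Covered.trans c213 c214) (Covered.trans c215 c216))) (Covered.trans (Covered.trans c217 (Covered.trans c218 c219)) (Covered.trans (Covered.trans c220 c221) (Covered.trans c222 c223)))))))) (Covered.trans (Covered.trans (Covered.trans (Covered.trans (Covered.trans (Covered.trans (Covered.trans c224 (Covered.trans c225 c226)) (Covered.trans (Covered.trans c227 c228) (Covered.trans c229 c230))) (Covered.trans (Covered.trans c231 (Covered.trans c232 c233)) (Covered.trans (Covered.trans c234 c235) (Covered.trans c236 c237)))) (Covered.trans (Covered.trans (Covered.trans c238 (Covered.trans c239 c240)) (Covered.trans (Covered.trans c241 c242) (Covered.trans c243 c244))) (Covered.trans (Covered.trans c245 (Covered.trans c246 c247)) (Covered.trans (Covered.trans c248 c249) (Covered.trans c250 c251))))) (Covered.trans (Covered.trans (Covered.trans (Covered.trans c252 (Covered.trans c253 c254)) (Covered.trans (Covered.trans c255 c256) (Covered.trans c257 c258))) (Covered.trans (Covered.trans c259 (Covered.trans c260 c261)) (Covered.trans (Covered.trans c262 c263) (Covered.trans c264 c265)))) (Covered.trans (Covered.trans (Covered.trans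 c266 (Covered.trans c267 c268)) (Covered.trans (Covered.trans c269 c270) (Covered.trans c271 c272))) (Covered.trans (Covered.trans c273 (Covered.trans c274 c275)) (Covered.trans (Covered.trans c276 c277) (Covered.trans c278 c279)))))) (Covered.trans (Covered.trans (Covered.trans (Covered.trans (Covered.trans c280 (Covered.trans c281 c282)) (Covered.trans (Covered.trans c283 c284) (Covered.trans c285 c286))) (Covered.trans (Covered.trans c287 (Covered.trans c288 c289)) (Covered.trans (Covered.trans c290 c291) (Covered.trans c292 c293)))) (Covered.trans (Covered.trans (Covered.trans c294 (Covered.trans c295 c296)) (Covered.trans (Covered.trans c297 c298) (Covered.trans c299 c300))) (Covered.trans (Covered.trans c301 (Covered.trans c302 c303)) (Covered.trans (Covered.trans c304 c305) (Covered.trans c306 c307))))) (Covered.trans (Covered.trans (Covered.trans (Covered.trans c308 (Covered.trans c309 c310)) (Covered.trans (Covered.trans c311 c312) (Covered.trans c313 c314))) (Covered.trans (Covered.trans c315 (Covered.trans c316 c317)) (Covered.trans (Covered.trans c318 c319) (Covered.trans c320 c321)))) (Covered.trans (Covered.trans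 (Covered.trans c322 (Covered.trans c323 c324)) (Covered.trans (Covered.trans c325 c326) (Covered.trans c327 c328))) (Covered.trans (Covered.trans c329 (Covered.trans c330 c331)) (Covered.trans (Covered.trans c332 c333) (Covered.trans c334 c335))))))) (Covered.trans (Covered.trans (Covered.trans (Covered.trans (Covered.trans (Covered.trans c336 (Covered.trans c337 c338)) (Covered.trans (Covered.trans c339 c340) (Covered.trans c341 c342))) (Covered.trans (Covered.trans c343 (Covered.trans c344 c345)) (Covered.trans (Covered.trans c346 c347) (Covered.trans c348 c349)))) (Covered.trans (Covered.trans (Covered.trans c350 (Covered.trans c351 c352)) (Covered.trans (Covered.trans c353 c354) (Covered.trans c355 c356))) (Covered.trans (Covered.trans c357 (Covered.trans c358 c359)) (Covered.trans (Covered.trans c360 c361) (Covered.trans c362 c363))))) (Covered.trans (Covered.trans (Covered.trans (Covered.trans c364 (Covered.trans c365 c366)) (Covered.trans (Covered.trans c367 c368) (Covered.trans c369 c370))) (Covered.trans (Covered.trans c371 (Covered.trans c372 c373)) (Covered.trans (Covered.trans c374 c375) (Covered.trans c376 c377))))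 (Covered.trans (Covered.trans (Covered.trans c378 (Covered.trans c379 c380)) (Covered.trans (Covered.trans c381 c382) (Covered.trans c383 c384))) (Covered.trans (Covered.trans c385 (Covered.trans c386 c387)) (Covered.trans (Covered.trans c388 c389) (Covered.trans c390 c391)))))) (Covered.trans (Covered.trans (Covered.trans (Covered.trans (Covered.trans c392 (Covered.trans c393 c394)) (Covered.trans (Covered.trans c395 c396) (Covered.trans c397 c398))) (Covered.trans (Covered.trans c399 (Covered.trans c400 c401)) (Covered.trans (Covered.trans c402 c403) (Covered.trans c404 c405)))) (Covered.trans (Covered.trans (Covered.trans c406 (Covered.trans c407 c408)) (Covered.trans (Covered.trans c409 c410) (Covered.trans c411 c412))) (Covered.trans (Covered.trans c413 (Covered.trans c414 c415)) (Covered.trans (Covered.trans c416 c417) (Covered.trans c418 c419))))) (Covered.trans (Covered.trans (Covered.trans (Covered.trans c420 (Covered.trans c421 c422)) (Covered.trans (Covered.trans c423 c424) (Covered.trans c425 c426))) (Covered.trans (Covered.trans c427 (Covered.trans c428 c429)) (Covered.trans (Covered.trans c430 c431) (Covered.trans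 c432 c433)))) (Covered.trans (Covered.trans (Covered.trans c434 (Covered.trans c435 c436)) (Covered.trans (Covered.trans c437 c438) (Covered.trans c439 c440))) (Covered.trans (Covered.trans c441 (Covered.trans c442 c443)) (Covered.trans (Covered.trans c444 c445) (Covered.trans c446 c447))))))))) (Covered.trans (Covered.trans (Covered.trans (Covered.trans (Covered.trans (Covered.trans (Covered.trans (Covered.trans c448 (Covered.trans c449 c450)) (Covered.trans (Covered.trans c451 c452) (Covered.trans c453 c454))) (Covered.trans (Covered.trans c455 (Covered.trans c456 c457)) (Covered.trans (Covered.trans c458 c459) (Covered.trans c460 c461)))) (Covered.trans (Covered.trans (Covered.trans c462 (Covered.trans c463 c464)) (Covered.trans (Covered.trans c465 c466) (Covered.trans c467 c468))) (Covered.trans (Covered.trans c469 (Covered.trans c470 c471)) (Covered.trans (Covered.trans c472 c473) (Covered.trans c474 c475))))) (Covered.trans (Covered.trans (Covered.trans (Covered.trans c476 (Covered.trans c477 c478)) (Covered.trans (Covered.trans c479 c480) (Covered.trans c481 c482))) (Covered.trans (Covered.trans c483 (Covered.trans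 c484 c485)) (Covered.trans (Covered.trans c486 c487) (Covered.trans c488 c489)))) (Covered.trans (Covered.trans (Covered.trans c490 (Covered.trans c491 c492)) (Covered.trans (Covered.trans c493 c494) (Covered.trans c495 c496))) (Covered.trans (Covered.trans c497 (Covered.trans c498 c499)) (Covered.trans (Covered.trans c500 c501) (Covered.trans c502 c503)))))) (Covered.trans (Covered.trans (Covered.trans (Covered.trans (Covered.trans c504 (Covered.trans c505 c506)) (Covered.trans (Covered.trans c507 c508) (Covered.trans c509 c510))) (Covered.trans (Covered.trans c511 (Covered.trans c512 c513)) (Covered.trans (Covered.trans c514 c515) (Covered.trans c516 c517)))) (Covered.trans (Covered.trans (Covered.trans c518 (Covered.trans c519 c520)) (Covered.trans (Covered.trans c521 c522) (Covered.trans c523 c524))) (Covered.trans (Covered.trans c525 (Covered.trans c526 c527)) (Covered.trans (Covered.trans c528 c529) (Covered.trans c530 c531))))) (Covered.trans (Covered.trans (Covered.trans (Covered.trans c532 (Covered.trans c533 c534)) (Covered.trans (Covered.trans c535 c536) (Covered.trans c537 c538))) (Covered.trans (Covered.trans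 c539 (Covered.trans c540 c541)) (Covered.trans (Covered.trans c542 c543) (Covered.trans c544 c545)))) (Covered.trans (Covered.trans (Covered.trans c546 (Covered.trans c547 c548)) (Covered.trans (Covered.trans c549 c550) (Covered.trans c551 c552))) (Covered.trans (Covered.trans c553 (Covered.trans c554 c555)) (Covered.trans (Covered.trans c556 c557) (Covered.trans c558 c559))))))) (Covered.trans (Covered.trans (Covered.trans (Covered.trans (Covered.trans (Covered.trans c560 (Covered.trans c561 c562)) (Covered.trans (Covered.trans c563 c564) (Covered.trans c565 c566))) (Covered.trans (Covered.trans c567 (Covered.trans c568 c569)) (Covered.trans (Covered.trans c570 c571) (Covered.trans c572 c573)))) (Covered.trans (Covered.trans (Covered.trans c574 (Covered.trans c575 c576)) (Covered.trans (Covered.trans c577 c578) (Covered.trans c579 c580))) (Covered.trans (Covered.trans c581 (Covered.trans c582 c583)) (Covered.trans (Covered.trans c584 c585) (Covered.trans c586 c587))))) (Covered.trans (Covered.trans (Covered.trans (Covered.trans c588 (Covered.trans c589 c590)) (Covered.trans (Covered.trans c591 c592) (Covered.trans c593 c594)))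 (Covered.trans (Covered.trans c595 (Covered.trans c596 c597)) (Covered.trans (Covered.trans c598 c599) (Covered.trans c600 c601)))) (Covered.trans (Covered.trans (Covered.trans c602 (Covered.trans c603 c604)) (Covered.trans (Covered.trans c605 c606) (Covered.trans c607 c608))) (Covered.trans (Covered.trans c609 (Covered.trans c610 c611)) (Covered.trans (Covered.trans c612 c613) (Covered.trans c614 c615)))))) (Covered.trans (Covered.trans (Covered.trans (Covered.trans (Covered.trans c616 (Covered.trans c617 c618)) (Covered.trans (Covered.trans c619 c620) (Covered.trans c621 c622))) (Covered.trans (Covered.trans c623 (Covered.trans c624 c625)) (Covered.trans (Covered.trans c626 c627) (Covered.trans c628 c629)))) (Covered.trans (Covered.trans (Covered.trans c630 (Covered.trans c631 c632)) (Covered.trans (Covered.trans c633 c634) (Covered.trans c635 c636))) (Covered.trans (Covered.trans c637 (Covered.trans c638 c639)) (Covered.trans (Covered.trans c640 c641) (Covered.trans c642 c643))))) (Covered.trans (Covered.trans (Covered.trans (Covered.trans c644 (Covered.trans c645 c646)) (Covered.trans (Covered.trans c647 c648) (Covered.trans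 c649 c650))) (Covered.trans (Covered.trans c651 (Covered.trans c652 c653)) (Covered.trans (Covered.trans c654 c655) (Covered.trans c656 c657)))) (Covered.trans (Covered.trans (Covered.trans c658 (Covered.trans c659 c660)) (Covered.trans (Covered.trans c661 c662) (Covered.trans c663 c664))) (Covered.trans (Covered.trans c665 (Covered.trans c666 c667)) (Covered.trans (Covered.trans c668 c669) (Covered.trans c670 c671)))))))) (Covered.trans (Covered.trans (Covered.trans (Covered.trans (Covered.trans (Covered.trans (Covered.trans c672 (Covered.trans c673 c674)) (Covered.trans (Covered.trans c675 c676) (Covered.trans c677 c678))) (Covered.trans (Covered.trans c679 (Covered.trans c680 c681)) (Covered.trans (Covered.trans c682 c683) (Covered.trans c684 c685)))) (Covered.trans (Covered.trans (Covered.trans c686 (Covered.trans c687 c688)) (Covered.trans (Covered.trans c689 c690) (Covered.trans c691 c692))) (Covered.trans (Covered.trans c693 (Covered.trans c694 c695)) (Covered.trans (Covered.trans c696 c697) (Covered.trans c698 c699))))) (Covered.trans (Covered.trans (Covered.trans (Covered.trans c700 (Covered.trans c701 c702)) (Covered.trans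 (Covered.trans c703 c704) (Covered.trans c705 c706))) (Covered.trans (Covered.trans c707 (Covered.trans c708 c709)) (Covered.trans (Covered.trans c710 c711) (Covered.trans c712 c713)))) (Covered.trans (Covered.trans (Covered.trans c714 (Covered.trans c715 c716)) (Covered.trans (Covered.trans c717 c718) (Covered.trans c719 c720))) (Covered.trans (Covered.trans c721 (Covered.trans c722 c723)) (Covered.trans (Covered.trans c724 c725) (Covered.trans c726 c727)))))) (Covered.trans (Covered.trans (Covered.trans (Covered.trans (Covered.trans c728 (Covered.trans c729 c730)) (Covered.trans (Covered.trans c731 c732) (Covered.trans c733 c734))) (Covered.trans (Covered.trans c735 (Covered.trans c736 c737)) (Covered.trans (Covered.trans c738 c739) (Covered.trans c740 c741)))) (Covered.trans (Covered.trans (Covered.trans c742 (Covered.trans c743 c744)) (Covered.trans (Covered.trans c745 c746) (Covered.trans c747 c748))) (Covered.trans (Covered.trans c749 (Covered.trans c750 c751)) (Covered.trans (Covered.trans c752 c753) (Covered.trans c754 c755))))) (Covered.trans (Covered.trans (Covered.trans (Covered.trans c756 (Covered.trans c757 c758))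 (Covered.trans (Covered.trans c759 c760) (Covered.trans c761 c762))) (Covered.trans (Covered.trans c763 (Covered.trans c764 c765)) (Covered.trans (Covered.trans c766 c767) (Covered.trans c768 c769)))) (Covered.trans (Covered.trans (Covered.trans c770 (Covered.trans c771 c772)) (Covered.trans (Covered.trans c773 c774) (Covered.trans c775 c776))) (Covered.trans (Covered.trans c777 (Covered.trans c778 c779)) (Covered.trans (Covered.trans c780 c781) (Covered.trans c782 c783))))))) (Covered.trans (Covered.trans (Covered.trans (Covered.trans (Covered.trans (Covered.trans c784 (Covered.trans c785 c786)) (Covered.trans (Covered.trans c787 c788) (Covered.trans c789 c790))) (Covered.trans (Covered.trans c791 (Covered.trans c792 c793)) (Covered.trans (Covered.trans c794 c795) (Covered.trans c796 c797)))) (Covered.trans (Covered.trans (Covered.trans c798 (Covered.trans c799 c800)) (Covered.trans (Covered.trans c801 c802) (Covered.trans c803 c804))) (Covered.trans (Covered.trans c805 (Covered.trans c806 c807)) (Covered.trans (Covered.trans c808 c809) (Covered.trans c810 c811))))) (Covered.trans (Covered.trans (Covered.trans (Covered.trans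 c812 (Covered.trans c813 c814)) (Covered.trans (Covered.trans c815 c816) (Covered.trans c817 c818))) (Covered.trans (Covered.trans c819 (Covered.trans c820 c821)) (Covered.trans (Covered.trans c822 c823) (Covered.trans c824 c825)))) (Covered.trans (Covered.trans (Covered.trans c826 (Covered.trans c827 c828)) (Covered.trans (Covered.trans c829 c830) (Covered.trans c831 c832))) (Covered.trans (Covered.trans c833 (Covered.trans c834 c835)) (Covered.trans (Covered.trans c836 c837) (Covered.trans c838 c839)))))) (Covered.trans (Covered.trans (Covered.trans (Covered.trans (Covered.trans c840 (Covered.trans c841 c842)) (Covered.trans (Covered.trans c843 c844) (Covered.trans c845 c846))) (Covered.trans (Covered.trans c847 (Covered.trans c848 c849)) (Covered.trans (Covered.trans c850 c851) (Covered.trans c852 c853)))) (Covered.trans (Covered.trans (Covered.trans c854 (Covered.trans c855 c856)) (Covered.trans (Covered.trans c857 c858) (Covered.trans c859 c860))) (Covered.trans (Covered.trans c861 (Covered.trans c862 c863)) (Covered.trans (Covered.trans c864 c865) (Covered.trans c866 c867))))) (Covered.trans (Covered.trans (Covered.trans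 (Covered.trans c868 (Covered.trans c869 c870)) (Covered.trans (Covered.trans c871 c872) (Covered.trans c873 c874))) (Covered.trans (Covered.trans c875 (Covered.trans c876 c877)) (Covered.trans (Covered.trans c878 c879) (Covered.trans c880 c881)))) (Covered.trans (Covered.trans (Covered.trans c882 (Covered.trans c883 c884)) (Covered.trans (Covered.trans c885 c886) (Covered.trans c887 c888))) (Covered.trans (Covered.trans c889 (Covered.trans c890 c891)) (Covered.trans (Covered.trans c892 c893) (Covered.trans c894 c895))))))))))
theorem links : LinksOK Eo cF (2 * nEv) N ys 0 306936 := (LinksOK.trans (LinksOK.trans (LinksOK.trans (LinksOK.trans (LinksOK.trans (LinksOK.trans (LinksOK.trans (LinksOK.trans k0 k1) (LinksOK.trans k2 k3)) (LinksOK.trans (LinksOK.trans k4 k5) (LinksOK.trans k6 (LinksOK.trans k7 k8)))) (LinksOK.trans (LinksOK.trans (LinksOK.trans k9 k10) (LinksOK.trans k11 k12)) (LinksOK.trans (LinksOK.trans k13 k14) (LinksOK.trans k15 (LinksOK.trans k16 k17))))) (LinksOK.trans (LinksOK.trans (LinksOK.trans (LinksOK.trans k18 k19) (LinksOK.trans k20 k21)) (LinksOK.trans (LinksOK.trans k22 k23) (LinksOK.trans k24 (LinksOK.trans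 k25 k26)))) (LinksOK.trans (LinksOK.trans (LinksOK.trans k27 k28) (LinksOK.trans k29 (LinksOK.trans k30 k31))) (LinksOK.trans (LinksOK.trans k32 k33) (LinksOK.trans k34 (LinksOK.trans k35 k36)))))) (LinksOK.trans (LinksOK.trans (LinksOK.trans (LinksOK.trans (LinksOK.trans k37 k38) (LinksOK.trans k39 k40)) (LinksOK.trans (LinksOK.trans k41 k42) (LinksOK.trans k43 (LinksOK.trans k44 k45)))) (LinksOK.trans (LinksOK.trans (LinksOK.trans k46 k47) (LinksOK.trans k48 (LinksOK.trans k49 k50))) (LinksOK.trans (LinksOK.trans k51 k52) (LinksOK.trans k53 (LinksOK.trans k54 k55))))) (LinksOK.trans (LinksOK.trans (LinksOK.trans (LinksOK.trans k56 k57) (LinksOK.trans k58 k59)) (LinksOK.trans (LinksOK.trans k60 k61) (LinksOK.trans k62 (LinksOK.trans k63 k64)))) (LinksOK.trans (LinksOK.trans (LinksOK.trans k65 k66) (LinksOK.trans k67 (LinksOK.trans k68 k69))) (LinksOK.trans (LinksOK.trans k70 k71) (LinksOK.trans k72 (LinksOK.trans k73 k74))))))) (LinksOK.trans (LinksOK.trans (LinksOK.trans (LinksOK.trans (LinksOK.trans (LinksOK.trans k75 k76) (LinksOK.trans k77 k78)) (LinksOK.trans (LinksOK.trans k79 k80) (LinksOK.trans k81 (LinksOK.trans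 k82 k83)))) (LinksOK.trans (LinksOK.trans (LinksOK.trans k84 k85) (LinksOK.trans k86 k87)) (LinksOK.trans (LinksOK.trans k88 k89) (LinksOK.trans k90 (LinksOK.trans k91 k92))))) (LinksOK.trans (LinksOK.trans (LinksOK.trans (LinksOK.trans k93 k94) (LinksOK.trans k95 k96)) (LinksOK.trans (LinksOK.trans k97 k98) (LinksOK.trans k99 (LinksOK.trans k100 k101)))) (LinksOK.trans (LinksOK.trans (LinksOK.trans k102 k103) (LinksOK.trans k104 (LinksOK.trans k105 k106))) (LinksOK.trans (LinksOK.trans k107 k108) (LinksOK.trans k109 (LinksOK.trans k110 k111)))))) (LinksOK.trans (LinksOK.trans (LinksOK.trans (LinksOK.trans (LinksOK.trans k112 k113) (LinksOK.trans k114 k115)) (LinksOK.trans (LinksOK.trans k116 k117) (LinksOK.trans k118 (LinksOK.trans k119 k120)))) (LinksOK.trans (LinksOK.trans (LinksOK.trans k121 k122) (LinksOK.trans k123 (LinksOK.trans k124 k125))) (LinksOK.trans (LinksOK.trans k126 k127) (LinksOK.trans k128 (LinksOK.trans k129 k130))))) (LinksOK.trans (LinksOK.trans (LinksOK.trans (LinksOK.trans k131 k132) (LinksOK.trans k133 k134)) (LinksOK.trans (LinksOK.trans k135 k136) (LinksOK.trans k137 (LinksOK.trans k138 k139))))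 (LinksOK.trans (LinksOK.trans (LinksOK.trans k140 k141) (LinksOK.trans k142 (LinksOK.trans k143 k144))) (LinksOK.trans (LinksOK.trans k145 k146) (LinksOK.trans k147 (LinksOK.trans k148 k149)))))))) (LinksOK.trans (LinksOK.trans (LinksOK.trans (LinksOK.trans (LinksOK.trans (LinksOK.trans (LinksOK.trans k150 k151) (LinksOK.trans k152 k153)) (LinksOK.trans (LinksOK.trans k154 k155) (LinksOK.trans k156 (LinksOK.trans k157 k158)))) (LinksOK.trans (LinksOK.trans (LinksOK.trans k159 k160) (LinksOK.trans k161 k162)) (LinksOK.trans (LinksOK.trans k163 k164) (LinksOK.trans k165 (LinksOK.trans k166 k167))))) (LinksOK.trans (LinksOK.trans (LinksOK.trans (LinksOK.trans k168 k169) (LinksOK.trans k170 k171)) (LinksOK.trans (LinksOK.trans k172 k173) (LinksOK.trans k174 (LinksOK.trans k175 k176)))) (LinksOK.trans (LinksOK.trans (LinksOK.trans k177 k178) (LinksOK.trans k179 (LinksOK.trans k180 k181))) (LinksOK.trans (LinksOK.trans k182 k183) (LinksOK.trans k184 (LinksOK.trans k185 k186)))))) (LinksOK.trans (LinksOK.trans (LinksOK.trans (LinksOK.trans (LinksOK.trans k187 k188) (LinksOK.trans k189 k190)) (LinksOK.trans (LinksOK.trans k191 k192)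 (LinksOK.trans k193 (LinksOK.trans k194 k195)))) (LinksOK.trans (LinksOK.trans (LinksOK.trans k196 k197) (LinksOK.trans k198 (LinksOK.trans k199 k200))) (LinksOK.trans (LinksOK.trans k201 k202) (LinksOK.trans k203 (LinksOK.trans k204 k205))))) (LinksOK.trans (LinksOK.trans (LinksOK.trans (LinksOK.trans k206 k207) (LinksOK.trans k208 k209)) (LinksOK.trans (LinksOK.trans k210 k211) (LinksOK.trans k212 (LinksOK.trans k213 k214)))) (LinksOK.trans (LinksOK.trans (LinksOK.trans k215 k216) (LinksOK.trans k217 (LinksOK.trans k218 k219))) (LinksOK.trans (LinksOK.trans k220 k221) (LinksOK.trans k222 (LinksOK.trans k223 k224))))))) (LinksOK.trans (LinksOK.trans (LinksOK.trans (LinksOK.trans (LinksOK.trans (LinksOK.trans k225 k226) (LinksOK.trans k227 k228)) (LinksOK.trans (LinksOK.trans k229 k230) (LinksOK.trans k231 (LinksOK.trans k232 k233)))) (LinksOK.trans (LinksOK.trans (LinksOK.trans k234 k235) (LinksOK.trans k236 (LinksOK.trans k237 k238))) (LinksOK.trans (LinksOK.trans k239 k240) (LinksOK.trans k241 (LinksOK.trans k242 k243))))) (LinksOK.trans (LinksOK.trans (LinksOK.trans (LinksOK.trans k244 k245) (LinksOK.trans k246 k247))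 (LinksOK.trans (LinksOK.trans k248 k249) (LinksOK.trans k250 (LinksOK.trans k251 k252)))) (LinksOK.trans (LinksOK.trans (LinksOK.trans k253 k254) (LinksOK.trans k255 (LinksOK.trans k256 k257))) (LinksOK.trans (LinksOK.trans k258 k259) (LinksOK.trans k260 (LinksOK.trans k261 k262)))))) (LinksOK.trans (LinksOK.trans (LinksOK.trans (LinksOK.trans (LinksOK.trans k263 k264) (LinksOK.trans k265 k266)) (LinksOK.trans (LinksOK.trans k267 k268) (LinksOK.trans k269 (LinksOK.trans k270 k271)))) (LinksOK.trans (LinksOK.trans (LinksOK.trans k272 k273) (LinksOK.trans k274 (LinksOK.trans k275 k276))) (LinksOK.trans (LinksOK.trans k277 k278) (LinksOK.trans k279 (LinksOK.trans k280 k281))))) (LinksOK.trans (LinksOK.trans (LinksOK.trans (LinksOK.trans k282 k283) (LinksOK.trans k284 k285)) (LinksOK.trans (LinksOK.trans k286 k287) (LinksOK.trans k288 (LinksOK.trans k289 k290)))) (LinksOK.trans (LinksOK.trans (LinksOK.trans k291 k292) (LinksOK.trans k293 (LinksOK.trans k294 k295))) (LinksOK.trans (LinksOK.trans k296 k297) (LinksOK.trans k298 (LinksOK.trans k299 k300)))))))))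
theorem defs : ∀ c, c < nDef → chkDef Eo inv c = true := defs_of_bits 347684 13 43 (by norm_num) (by
  intro j hj
  interval_cases j
  · exact d0
  · exact d1
  · exact d2
  · exact d3
  · exact d4
  · exact d5
  · exact d6
  · exact d7
  · exact d8
  · exact d9
  · exact d10
  · exact d11
  · exact d12
  · exact d13
  · exact d14
  · exact d15
  · exact d16
  · exact d17
  · exact d18
  · exact d19
  · exact d20
  · exact d21
  · exact d22
  · exact d23
  · exact d24
  · exact d25
  · exact d26
  · exact d27
  · exact d28
  · exact d29
  · exact d30
  · exact d31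
  · exact d32
  · exact d33
  · exact d34
  · exact d35
  · exact d36
  · exact d37
  · exact d38
  · exact d39
  · exact d40
  · exact d41
  · exact d42
  )
theorem words : ∀ j, j < nW → wordsOK W (relR Rb inv) inv sp j = true := allBelow_spec (by norm_num [nW]) wordsGood
end Cfsg.Agent.Lib.ToddCox.Fi24_306936
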