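import Cfsg.Agent.Lib.ToddCox.Fi24_306936.Tab
set_option autoImplicit false
set_option maxRecDepth 100000
namespace Cfsg.Agent.Lib.ToddCox.Fi24_306936
theorem a7 : allBits chkAll 10 7168 = true := by decide +kernel
theorem a8 : allBits chkAll 10 8192 = true := by decide +kernel
theorem a9 : allBits chkAll 10 9216 = true := by decide +kernel
theorem a10 : allBits chkAll 10 10240 = true := by decide +kernel
theorem a11 : allBits chkAll 10 11264 = true := by decide +kernel
theorem a12 : allBits chkAll 10 12288 = true := by decide +kernel
theorem a13 : allBits chkAll 10 13312 = true := by decide +kernel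
end Cfsg.Agent.Lib.ToddCox.Fi24_306936
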