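import Cfsg.Agent.Lib.ToddCox.Fi24_306936.Tab
set_option autoImplicit false
set_option maxRecDepth 100000
namespace Cfsg.Agent.Lib.ToddCox.Fi24_306936
theorem a70 : allBits chkAll 10 71680 = true := by decide +kernel
theorem a71 : allBits chkAll 10 72704 = true := by decide +kernel
theorem a72 : allBits chkAll 10 73728 = true := by decide +kernel
theorem a73 : allBits chkAll 10 74752 = true := by decide +kernel
theorem a74 : allBits chkAll 10 75776 = true := by decide +kernel
theorem a75 : allBits chkAll 10 76800 = true := by decide +kernel
theorem a76 : allBits chkAll 10 77824 = true := by decide +kernel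
end Cfsg.Agent.Lib.ToddCox.Fi24_306936
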