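import Cfsg.Agent.Lib.ToddCox.Fi24_306936.Tab
set_option autoImplicit false
set_option maxRecDepth 100000
namespace Cfsg.Agent.Lib.ToddCox.Fi24_306936
theorem a77 : allBits chkAll 10 78848 = true := by decide +kernel
theorem a78 : allBits chkAll 10 79872 = true := by decide +kernel
theorem a79 : allBits chkAll 10 80896 = true := by decide +kernel
theorem a80 : allBits chkAll 10 81920 = true := by decide +kernel
theorem a81 : allBits chkAll 10 82944 = true := by decide +kernel
theorem a82 : allBits chkAll 10 83968 = true := by decide +kernel
theorem a83 : allBits chkAll 10 84992 = true := by decide +kernel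
end Cfsg.Agent.Lib.ToddCox.Fi24_306936
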