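import Cfsg.Agent.Lib.ToddCox.Fi24_306936.Tab
set_option autoImplicit false
set_option maxRecDepth 100000
namespace Cfsg.Agent.Lib.ToddCox.Fi24_306936
theorem a84 : allBits chkAll 10 86016 = true := by decide +kernel
theorem a85 : allBits chkAll 10 87040 = true := by decide +kernel
theorem a86 : allBits chkAll 10 88064 = true := by decide +kernel
theorem a87 : allBits chkAll 10 89088 = true := by decide +kernel
theorem a88 : allBits chkAll 10 90112 = true := by decide +kernel
theorem a89 : allBits chkAll 10 91136 = true := by decide +kernel
theorem a90 : allBits chkAll 10 92160 = true := by decide +kernel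
end Cfsg.Agent.Lib.ToddCox.Fi24_306936
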