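import Cfsg.Agent.Lib.ToddCox.Fi24_306936.Tab
set_option autoImplicit false
set_option maxRecDepth 100000
namespace Cfsg.Agent.Lib.ToddCox.Fi24_306936
theorem a91 : allBits chkAll 10 93184 = true := by decide +kernel
theorem a92 : allBits chkAll 10 94208 = true := by decide +kernel
theorem a93 : allBits chkAll 10 95232 = true := by decide +kernel
theorem a94 : allBits chkAll 10 96256 = true := by decide +kernel
theorem a95 : allBits chkAll 10 97280 = true := by decide +kernel
theorem a96 : allBits chkAll 10 98304 = true := by decide +kernel
theorem a97 : allBits chkAll 10 99328 = true := by decide +kernel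
end Cfsg.Agent.Lib.ToddCox.Fi24_306936
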