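import Cfsg.Agent.Lib.ToddCox.Fi24_306936.Tab
set_option autoImplicit false
set_option maxRecDepth 100000
namespace Cfsg.Agent.Lib.ToddCox.Fi24_306936
theorem a98 : allBits chkAll 10 100352 = true := by decide +kernel
theorem a99 : allBits chkAll 10 101376 = true := by decide +kernel
theorem a100 : allBits chkAll 10 102400 = true := by decide +kernel
theorem a101 : allBits chkAll 10 103424 = true := by decide +kernel
theorem a102 : allBits chkAll 10 104448 = true := by decide +kernel
theorem a103 : allBits chkAll 10 105472 = true := by decide +kernel
theorem a104 : allBits chkAll 10 106496 = true := by decide +kernel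
end Cfsg.Agent.Lib.ToddCox.Fi24_306936
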