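import Cfsg.Agent.Lib.ToddCox.Fi24_306936.Tab
set_option autoImplicit false
set_option maxRecDepth 100000
namespace Cfsg.Agent.Lib.ToddCox.Fi24_306936
theorem a42 : allBits chkAll 10 43008 = true := by decide +kernel
theorem a43 : allBits chkAll 10 44032 = true := by decide +kernel
theorem a44 : allBits chkAll 10 45056 = true := by decide +kernel
theorem a45 : allBits chkAll 10 46080 = true := by decide +kernel
theorem a46 : allBits chkAll 10 47104 = true := by decide +kernel
theorem a47 : allBits chkAll 10 48128 = true := by decide +kernel
theorem a48 : allBits chkAll 10 49152 = true := by decide +kernel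
end Cfsg.Agent.Lib.ToddCox.Fi24_306936
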