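import Cfsg.Agent.Lib.ToddCox.Fi24_306936.Tab
set_option autoImplicit false
set_option maxRecDepth 100000
namespace Cfsg.Agent.Lib.ToddCox.Fi24_306936
theorem a49 : allBits chkAll 10 50176 = true := by decide +kernel
theorem a50 : allBits chkAll 10 51200 = true := by decide +kernel
theorem a51 : allBits chkAll 10 52224 = true := by decide +kernel
theorem a52 : allBits chkAll 10 53248 = true := by decide +kernel
theorem a53 : allBits chkAll 10 54272 = true := by decide +kernel
theorem a54 : allBits chkAll 10 55296 = true := by decide +kernel
theorem a55 : allBits chkAll 10 56320 = true := by decide +kernel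
end Cfsg.Agent.Lib.ToddCox.Fi24_306936
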