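import Cfsg.Agent.Lib.ToddCox.Fi24_306936.Tab
set_option autoImplicit false
set_option maxRecDepth 100000
namespace Cfsg.Agent.Lib.ToddCox.Fi24_306936
theorem a56 : allBits chkAll 10 57344 = true := by decide +kernel
theorem a57 : allBits chkAll 10 58368 = true := by decide +kernel
theorem a58 : allBits chkAll 10 59392 = true := by decide +kernel
theorem a59 : allBits chkAll 10 60416 = true := by decide +kernel
theorem a60 : allBits chkAll 10 61440 = true := by decide +kernel
theorem a61 : allBits chkAll 10 62464 = true := by decide +kernel
theorem a62 : allBits chkAll 10 63488 = true := by decide +kernel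
end Cfsg.Agent.Lib.ToddCox.Fi24_306936
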