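import Cfsg.Agent.Lib.ToddCox.Fi24_306936.Tab
set_option autoImplicit false
set_option maxRecDepth 100000
namespace Cfsg.Agent.Lib.ToddCox.Fi24_306936
theorem a63 : allBits chkAll 10 64512 = true := by decide +kernel
theorem a64 : allBits chkAll 10 65536 = true := by decide +kernel
theorem a65 : allBits chkAll 10 66560 = true := by decide +kernel
theorem a66 : allBits chkAll 10 67584 = true := by decide +kernel
theorem a67 : allBits chkAll 10 68608 = true := by decide +kernel
theorem a68 : allBits chkAll 10 69632 = true := by decide +kernel
theorem a69 : allBits chkAll 10 70656 = true := by decide +kernel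
end Cfsg.Agent.Lib.ToddCox.Fi24_306936
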