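import Cfsg.Agent.Lib.ToddCox.Fi24_306936.TP0
import Cfsg.Agent.Lib.ToddCox.Fi24_306936.TP1
import Cfsg.Agent.Lib.ToddCox.Fi24_306936.TP2
import Cfsg.Agent.Lib.ToddCox.Fi24_306936.TP3
import Cfsg.Agent.Lib.ToddCox.Fi24_306936.TP4
import Cfsg.Agent.Lib.ToddCox.Fi24_306936.TP5
import Cfsg.Agent.Lib.ToddCox.Fi24_306936.TP6
import Cfsg.Agent.Lib.ToddCox.Fi24_306936.TP7
import Cfsg.Agent.Lib.ToddCox.Fi24_306936.TP8
import Cfsg.Agent.Lib.ToddCox.Fi24_306936.TP9
import Cfsg.Agent.Lib.ToddCox.Fi24_306936.TP10
import Cfsg.Agent.Lib.ToddCox.Fi24_306936.TP11
import Cfsg.Agent.Lib.ToddCox.Fi24_306936.TP12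
import Cfsg.Agent.Lib.ToddCox.Fi24_306936.TP13
import Cfsg.Agent.Lib.ToddCox.Fi24_306936.TP14
import Cfsg.Agent.Lib.ToddCox.Fi24_306936.TP15
import Cfsg.Agent.Lib.ToddCox.Fi24_306936.TP16
import Cfsg.Agent.Lib.ToddCox.Fi24_306936.TP17
import Cfsg.Agent.Lib.ToddCox.Fi24_306936.TP18
import Cfsg.Agent.Lib.ToddCox.Fi24_306936.TP19
import Cfsg.Agent.Lib.ToddCox.Fi24_306936.TP20
import Cfsg.Agent.Lib.ToddCox.Fi24_306936.TP21
import Cfsg.Agent.Lib.ToddCox.Fi24_306936.TP22
import Cfsg.Agent.Lib.ToddCox.Fi24_306936.TP23
import Cfsg.Agent.Lib.ToddCox.Fi24_306936.TP24
import Cfsg.Agent.Lib.ToddCox.Fi24_306936.TP25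
import Cfsg.Agent.Lib.ToddCox.Fi24_306936.TP26
import Cfsg.Agent.Lib.ToddCox.Fi24_306936.TP27
import Cfsg.Agent.Lib.ToddCox.Fi24_306936.TP28
import Cfsg.Agent.Lib.ToddCox.Fi24_306936.TP29
import Cfsg.Agent.Lib.ToddCox.Fi24_306936.TP30
import Cfsg.Agent.Lib.ToddCox.Fi24_306936.TP31
import Cfsg.Agent.Lib.ToddCox.Fi24_306936.TP32
import Cfsg.Agent.Lib.ToddCox.Fi24_306936.TP33
import Cfsg.Agent.Lib.ToddCox.Fi24_306936.TP34
import Cfsg.Agent.Lib.ToddCox.Fi24_306936.TP35
import Cfsg.Agent.Lib.ToddCox.Fi24_306936.TP36
import Cfsg.Agent.Lib.ToddCox.Fi24_306936.TP37
import Cfsg.Agent.Lib.ToddCox.Fi24_306936.TP38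
import Cfsg.Agent.Lib.ToddCox.Fi24_306936.TP39
import Cfsg.Agent.Lib.ToddCox.Fi24_306936.TP40
import Cfsg.Agent.Lib.ToddCox.Fi24_306936.TP41
import Cfsg.Agent.Lib.ToddCox.Fi24_306936.TP42
set_option autoImplicit false
set_option maxRecDepth 100000
namespace Cfsg.Agent.Lib.ToddCox.Fi24_306936
theorem allPts (i : ℕ) (hi : i < 306936) : chkAll i = true := by
  have hk : i / 1024 < 300 := by omega
  have key : ∀ j, j < 300 → allBits chkAll 10 (j * 2 ^ 10) = true := by
    intro j hj
    interval_cases j
    · exact a0
    · exact a1
    · exact a2
    · exact a3
    · exact a4
    · exact a5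
    · exact a6
    · exact a7
    · exact a8
    · exact a9
    · exact a10
    · exact a11
    · exact a12
    · exact a13
    · exact a14
    · exact a15
    · exact a16
    · exact a17
    · exact a18
    · exact a19
    · exact a20
    · exact a21
    · exact a22
    · exact a23
    · exact a24
    · exact a25
    · exact a26
    · exact a27
    · exact a28
    · exact a29
    · exact a30
    · exact a31
    · exact a32
    · exact a33
    · exact a34
    · exact a35
    · exact a36
    · exact a37
    · exact a38
    · exact a39
    · exact a40
    · exact a41
    · exact a42
    · exact a43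
    · exact a44
    · exact a45
    · exact a46
    · exact a47
    · exact a48
    · exact a49
    · exact a50
    · exact a51
    · exact a52
    · exact a53
    · exact a54
    · exact a55
    · exact a56
    · exact a57
    · exact a58
    · exact a59
    · exact a60
    · exact a61
    · exact a62
    · exact a63
    · exact a64
    · exact a65
    · exact a66
    · exact a67
    · exact a68
    · exact a69
    · exact a70
    · exact a71
    · exact a72
    · exact a73
    · exact a74
    · exact a75
    · exact a76
    · exact a77
    · exact a78
    · exact a79
    · exact a80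
    · exact a81
    · exact a82
    · exact a83
    · exact a84
    · exact a85
    · exact a86
    · exact a87
    · exact a88
    · exact a89
    · exact a90
    · exact a91
    · exact a92
    · exact a93
    · exact a94
    · exact a95
    · exact a96
    · exact a97
    · exact a98
    · exact a99
    · exact a100
    · exact a101
    · exact a102
    · exact a103
    · exact a104
    · exact a105
    · exact a106
    · exact a107
    · exact a108
    · exact a109
    · exact a110
    · exact a111
    · exact a112
    · exact a113
    · exact a114
    · exact a115
    · exact a116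
    · exact a117
    · exact a118
    · exact a119
    · exact a120
    · exact a121
    · exact a122
    · exact a123
    · exact a124
    · exact a125
    · exact a126
    · exact a127
    · exact a128
    · exact a129
    · exact a130
    · exact a131
    · exact a132
    · exact a133
    · exact a134
    · exact a135
    · exact a136
    · exact a137
    · exact a138
    · exact a139
    · exact a140
    · exact a141
    · exact a142
    · exact a143
    · exact a144
    · exact a145
    · exact a146
    · exact a147
    · exact a148
    · exact a149
    · exact a150
    · exact a151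
    · exact a152
    · exact a153
    · exact a154
    · exact a155
    · exact a156
    · exact a157
    · exact a158
    · exact a159
    · exact a160
    · exact a161
    · exact a162
    · exact a163
    · exact a164
    · exact a165
    · exact a166
    · exact a167
    · exact a168
    · exact a169
    · exact a170
    · exact a171
    · exact a172
    · exact a173
    · exact a174
    · exact a175
    · exact a176
    · exact a177
    · exact a178
    · exact a179
    · exact a180
    · exact a181
    · exact a182
    · exact a183
    · exact a184
    · exact a185
    · exact a186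
    · exact a187
    · exact a188
    · exact a189
    · exact a190
    · exact a191
    · exact a192
    · exact a193
    · exact a194
    · exact a195
    · exact a196
    · exact a197
    · exact a198
    · exact a199
    · exact a200
    · exact a201
    · exact a202
    · exact a203
    · exact a204
    · exact a205
    · exact a206
    · exact a207
    · exact a208
    · exact a209
    · exact a210
    · exact a211
    · exact a212
    · exact a213
    · exact a214
    · exact a215
    · exact a216
    · exact a217
    · exact a218
    · exact a219
    · exact a220
    · exact a221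
    · exact a222
    · exact a223
    · exact a224
    · exact a225
    · exact a226
    · exact a227
    · exact a228
    · exact a229
    · exact a230
    · exact a231
    · exact a232
    · exact a233
    · exact a234
    · exact a235
    · exact a236
    · exact a237
    · exact a238
    · exact a239
    · exact a240
    · exact a241
    · exact a242
    · exact a243
    · exact a244
    · exact a245
    · exact a246
    · exact a247
    · exact a248
    · exact a249
    · exact a250
    · exact a251
    · exact a252
    · exact a253
    · exact a254
    · exact a255
    · exact a256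
    · exact a257
    · exact a258
    · exact a259
    · exact a260
    · exact a261
    · exact a262
    · exact a263
    · exact a264
    · exact a265
    · exact a266
    · exact a267
    · exact a268
    · exact a269
    · exact a270
    · exact a271
    · exact a272
    · exact a273
    · exact a274
    · exact a275
    · exact a276
    · exact a277
    · exact a278
    · exact a279
    · exact a280
    · exact a281
    · exact a282
    · exact a283
    · exact a284
    · exact a285
    · exact a286
    · exact a287
    · exact a288
    · exact a289
    · exact a290
    · exact a291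
    · exact a292
    · exact a293
    · exact a294
    · exact a295
    · exact a296
    · exact a297
    · exact a298
    · exact a299
  
  exact allBits_spec (key _ hk) i (Nat.div_mul_le_self i (2 ^ 10)) (by
    have := Nat.div_add_mod i (2 ^ 10)
    have h3 := Nat.mod_lt i (show 2 ^ 10 > 0 by positivity)
    rw [mul_comm] at this
    omega)
end Cfsg.Agent.Lib.ToddCox.Fi24_306936
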